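import Cfsg.Agent.Lib.ToddCox.J3O.PrimD
set_option autoImplicit false
set_option maxRecDepth 100000
namespace Cfsg.Agent.Lib.ToddCox.J3O
theorem prc0_0 : allBits (fun k => bif Nat.blt k 6156 then and (chkOrbPos Cfsg.Agent.Lib.ToddCox.J3T.tab PL0 0 0 6156 6156 (fun q => prR (Nat.add 0 q)) k) (Nat.beq (orbPt (prR (Nat.add 0 k))) k) else true) 11 (0 * 2 ^ 11) = true := by decide +kernel
theorem prc0_1 : allBits (fun k => bif Nat.blt k 6156 then and (chkOrbPos Cfsg.Agent.Lib.ToddCox.J3T.tab PL0 0 0 6156 6156 (fun q => prR (Nat.add 0 q)) k) (Nat.beq (orbPt (prR (Nat.add 0 k))) k) else true) 11 (1 * 2 ^ 11) = true := by decide +kernel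
theorem prc0_2 : allBits (fun k => bif Nat.blt k 6156 then and (chkOrbPos Cfsg.Agent.Lib.ToddCox.J3T.tab PL0 0 0 6156 6156 (fun q => prR (Nat.add 0 q)) k) (Nat.beq (orbPt (prR (Nat.add 0 k))) k) else true) 11 (2 * 2 ^ 11) = true := by decide +kernel
theorem prc0_3 : allBits (fun k => bif Nat.blt k 6156 then and (chkOrbPos Cfsg.Agent.Lib.ToddCox.J3T.tab PL0 0 0 6156 6156 (fun q => prR (Nat.add 0 q)) k) (Nat.beq (orbPt (prR (Nat.add 0 k))) k) else true) 11 (3 * 2 ^ 11) = true := by decide +kernel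
theorem prL0 : ∀ w ∈ PL0, (∀ a ∈ w, a < 5) ∧ (w = [nat_lit 4] ∨ ∃ s ∈ Cfsg.Agent.Lib.ToddCox.J3T.Sl, relW Cfsg.Agent.Lib.ToddCox.J3T.sg s = w) := by decide +kernel
theorem prW0 : tabW Cfsg.Agent.Lib.ToddCox.J3T.tab [nat_lit 4] 0 = 1 := by decide +kernel
theorem prc1_0 : allBits (fun k => bif Nat.blt k 6156 then and (chkOrbPos Cfsg.Agent.Lib.ToddCox.J3T.tab PL1 0 0 6156 6156 (fun q => prR (Nat.add 6156 q)) k) (Nat.beq (orbPt (prR (Nat.add 6156 k))) k) else true) 11 (0 * 2 ^ 11) = true := by decide +kernel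
theorem prc1_1 : allBits (fun k => bif Nat.blt k 6156 then and (chkOrbPos Cfsg.Agent.Lib.ToddCox.J3T.tab PL1 0 0 6156 6156 (fun q => prR (Nat.add 6156 q)) k) (Nat.beq (orbPt (prR (Nat.add 6156 k))) k) else true) 11 (1 * 2 ^ 11) = true := by decide +kernel
theorem prc1_2 : allBits (fun k => bif Nat.blt k 6156 then and (chkOrbPos Cfsg.Agent.Lib.ToddCox.J3T.tab PL1 0 0 6156 6156 (fun q => prR (Nat.add 6156 q)) k) (Nat.beq (orbPt (prR (Nat.add 6156 k))) k) else true) 11 (2 * 2 ^ 11) = true := by decide +kernel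
theorem prc1_3 : allBits (fun k => bif Nat.blt k 6156 then and (chkOrbPos Cfsg.Agent.Lib.ToddCox.J3T.tab PL1 0 0 6156 6156 (fun q => prR (Nat.add 6156 q)) k) (Nat.beq (orbPt (prR (Nat.add 6156 k))) k) else true) 11 (3 * 2 ^ 11) = true := by decide +kernel
theorem prL1 : ∀ w ∈ PL1, (∀ a ∈ w, a < 5) ∧ (w = [nat_lit 4, nat_lit 0, nat_lit 4] ∨ ∃ s ∈ Cfsg.Agent.Lib.ToddCox.J3T.Sl, relW Cfsg.Agent.Lib.ToddCox.J3T.sg s = w) := by decide +kernel
theorem prW1 : tabW Cfsg.Agent.Lib.ToddCox.J3T.tab [nat_lit 4, nat_lit 0, nat_lit 4] 0 = 1361 := by decide +kernel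
theorem prc2_0 : allBits (fun k => bif Nat.blt k 6156 then and (chkOrbPos Cfsg.Agent.Lib.ToddCox.J3T.tab PL2 0 0 6156 6156 (fun q => prR (Nat.add 12312 q)) k) (Nat.beq (orbPt (prR (Nat.add 12312 k))) k) else true) 11 (0 * 2 ^ 11) = true := by decide +kernel
theorem prc2_1 : allBits (fun k => bif Nat.blt k 6156 then and (chkOrbPos Cfsg.Agent.Lib.ToddCox.J3T.tab PL2 0 0 6156 6156 (fun q => prR (Nat.add 12312 q)) k) (Nat.beq (orbPt (prR (Nat.add 12312 k))) k) else true) 11 (1 * 2 ^ 11) = true := by decide +kernel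
theorem prc2_2 : allBits (fun k => bif Nat.blt k 6156 then and (chkOrbPos Cfsg.Agent.Lib.ToddCox.J3T.tab PL2 0 0 6156 6156 (fun q => prR (Nat.add 12312 q)) k) (Nat.beq (orbPt (prR (Nat.add 12312 k))) k) else true) 11 (2 * 2 ^ 11) = true := by decide +kernel
theorem prc2_3 : allBits (fun k => bif Nat.blt k 6156 then and (chkOrbPos Cfsg.Agent.Lib.ToddCox.J3T.tab PL2 0 0 6156 6156 (fun q => prR (Nat.add 12312 q)) k) (Nat.beq (orbPt (prR (Nat.add 12312 k))) k) else true) 11 (3 * 2 ^ 11) = true := by decide +kernel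
theorem prL2 : ∀ w ∈ PL2, (∀ a ∈ w, a < 5) ∧ (w = [nat_lit 4, nat_lit 1, nat_lit 4] ∨ ∃ s ∈ Cfsg.Agent.Lib.ToddCox.J3T.Sl, relW Cfsg.Agent.Lib.ToddCox.J3T.sg s = w) := by decide +kernel
theorem prW2 : tabW Cfsg.Agent.Lib.ToddCox.J3T.tab [nat_lit 4, nat_lit 1, nat_lit 4] 0 = 3401 := by decide +kernel
theorem prc3_0 : allBits (fun k => bif Nat.blt k 6156 then and (chkOrbPos Cfsg.Agent.Lib.ToddCox.J3T.tab PL3 0 0 6156 6156 (fun q => prR (Nat.add 18468 q)) k) (Nat.beq (orbPt (prR (Nat.add 18468 k))) k) else true) 11 (0 * 2 ^ 11) = true := by decide +kernel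
theorem prc3_1 : allBits (fun k => bif Nat.blt k 6156 then and (chkOrbPos Cfsg.Agent.Lib.ToddCox.J3T.tab PL3 0 0 6156 6156 (fun q => prR (Nat.add 18468 q)) k) (Nat.beq (orbPt (prR (Nat.add 18468 k))) k) else true) 11 (1 * 2 ^ 11) = true := by decide +kernel
theorem prc3_2 : allBits (fun k => bif Nat.blt k 6156 then and (chkOrbPos Cfsg.Agent.Lib.ToddCox.J3T.tab PL3 0 0 6156 6156 (fun q => prR (Nat.add 18468 q)) k) (Nat.beq (orbPt (prR (Nat.add 18468 k))) k) else true) 11 (2 * 2 ^ 11) = true := by decide +kernel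
theorem prc3_3 : allBits (fun k => bif Nat.blt k 6156 then and (chkOrbPos Cfsg.Agent.Lib.ToddCox.J3T.tab PL3 0 0 6156 6156 (fun q => prR (Nat.add 18468 q)) k) (Nat.beq (orbPt (prR (Nat.add 18468 k))) k) else true) 11 (3 * 2 ^ 11) = true := by decide +kernel
theorem prL3 : ∀ w ∈ PL3, (∀ a ∈ w, a < 5) ∧ (w = [nat_lit 4, nat_lit 2, nat_lit 4] ∨ ∃ s ∈ Cfsg.Agent.Lib.ToddCox.J3T.Sl, relW Cfsg.Agent.Lib.ToddCox.J3T.sg s = w) := by decide +kernel
theorem prW3 : tabW Cfsg.Agent.Lib.ToddCox.J3T.tab [nat_lit 4, nat_lit 2, nat_lit 4] 0 = 4761 := by decide +kernel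
theorem prc4_0 : allBits (fun k => bif Nat.blt k 6156 then and (chkOrbPos Cfsg.Agent.Lib.ToddCox.J3T.tab PL4 0 0 6156 6156 (fun q => prR (Nat.add 24624 q)) k) (Nat.beq (orbPt (prR (Nat.add 24624 k))) k) else true) 11 (0 * 2 ^ 11) = true := by decide +kernel
theorem prc4_1 : allBits (fun k => bif Nat.blt k 6156 then and (chkOrbPos Cfsg.Agent.Lib.ToddCox.J3T.tab PL4 0 0 6156 6156 (fun q => prR (Nat.add 24624 q)) k) (Nat.beq (orbPt (prR (Nat.add 24624 k))) k) else true) 11 (1 * 2 ^ 11) = true := by decide +kernel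
theorem prc4_2 : allBits (fun k => bif Nat.blt k 6156 then and (chkOrbPos Cfsg.Agent.Lib.ToddCox.J3T.tab PL4 0 0 6156 6156 (fun q => prR (Nat.add 24624 q)) k) (Nat.beq (orbPt (prR (Nat.add 24624 k))) k) else true) 11 (2 * 2 ^ 11) = true := by decide +kernel
theorem prc4_3 : allBits (fun k => bif Nat.blt k 6156 then and (chkOrbPos Cfsg.Agent.Lib.ToddCox.J3T.tab PL4 0 0 6156 6156 (fun q => prR (Nat.add 24624 q)) k) (Nat.beq (orbPt (prR (Nat.add 24624 k))) k) else true) 11 (3 * 2 ^ 11) = true := by decide +kernel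
theorem prL4 : ∀ w ∈ PL4, (∀ a ∈ w, a < 5) ∧ (w = [nat_lit 4, nat_lit 0, nat_lit 1, nat_lit 4] ∨ ∃ s ∈ Cfsg.Agent.Lib.ToddCox.J3T.Sl, relW Cfsg.Agent.Lib.ToddCox.J3T.sg s = w) := by decide +kernel
theorem prW4 : tabW Cfsg.Agent.Lib.ToddCox.J3T.tab [nat_lit 4, nat_lit 0, nat_lit 1, nat_lit 4] 0 = 5441 := by decide +kernel
theorem prc5_0 : allBits (fun k => bif Nat.blt k 6156 then and (chkOrbPos Cfsg.Agent.Lib.ToddCox.J3T.tab PL5 0 0 6156 6156 (fun q => prR (Nat.add 30780 q)) k) (Nat.beq (orbPt (prR (Nat.add 30780 k))) k) else true) 11 (0 * 2 ^ 11) = true := by decide +kernel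
theorem prc5_1 : allBits (fun k => bif Nat.blt k 6156 then and (chkOrbPos Cfsg.Agent.Lib.ToddCox.J3T.tab PL5 0 0 6156 6156 (fun q => prR (Nat.add 30780 q)) k) (Nat.beq (orbPt (prR (Nat.add 30780 k))) k) else true) 11 (1 * 2 ^ 11) = true := by decide +kernel
theorem prc5_2 : allBits (fun k => bif Nat.blt k 6156 then and (chkOrbPos Cfsg.Agent.Lib.ToddCox.J3T.tab PL5 0 0 6156 6156 (fun q => prR (Nat.add 30780 q)) k) (Nat.beq (orbPt (prR (Nat.add 30780 k))) k) else true) 11 (2 * 2 ^ 11) = true := by decide +kernel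
theorem prc5_3 : allBits (fun k => bif Nat.blt k 6156 then and (chkOrbPos Cfsg.Agent.Lib.ToddCox.J3T.tab PL5 0 0 6156 6156 (fun q => prR (Nat.add 30780 q)) k) (Nat.beq (orbPt (prR (Nat.add 30780 k))) k) else true) 11 (3 * 2 ^ 11) = true := by decide +kernel
theorem prL5 : ∀ w ∈ PL5, (∀ a ∈ w, a < 5) ∧ (w = [nat_lit 4, nat_lit 0, nat_lit 1, nat_lit 2, nat_lit 4] ∨ ∃ s ∈ Cfsg.Agent.Lib.ToddCox.J3T.Sl, relW Cfsg.Agent.Lib.ToddCox.J3T.sg s = w) := by decide +kernel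
theorem prW5 : tabW Cfsg.Agent.Lib.ToddCox.J3T.tab [nat_lit 4, nat_lit 0, nat_lit 1, nat_lit 2, nat_lit 4] 0 = 5561 := by decide +kernel
theorem prc6_0 : allBits (fun k => bif Nat.blt k 6156 then and (chkOrbPos Cfsg.Agent.Lib.ToddCox.J3T.tab PL6 0 0 6156 6156 (fun q => prR (Nat.add 36936 q)) k) (Nat.beq (orbPt (prR (Nat.add 36936 k))) k) else true) 11 (0 * 2 ^ 11) = true := by decide +kernel
theorem prc6_1 : allBits (fun k => bif Nat.blt k 6156 then and (chkOrbPos Cfsg.Agent.Lib.ToddCox.J3T.tab PL6 0 0 6156 6156 (fun q => prR (Nat.add 36936 q)) k) (Nat.beq (orbPt (prR (Nat.add 36936 k))) k) else true) 11 (1 * 2 ^ 11) = true := by decide +kernel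
theorem prc6_2 : allBits (fun k => bif Nat.blt k 6156 then and (chkOrbPos Cfsg.Agent.Lib.ToddCox.J3T.tab PL6 0 0 6156 6156 (fun q => prR (Nat.add 36936 q)) k) (Nat.beq (orbPt (prR (Nat.add 36936 k))) k) else true) 11 (2 * 2 ^ 11) = true := by decide +kernel
theorem prc6_3 : allBits (fun k => bif Nat.blt k 6156 then and (chkOrbPos Cfsg.Agent.Lib.ToddCox.J3T.tab PL6 0 0 6156 6156 (fun q => prR (Nat.add 36936 q)) k) (Nat.beq (orbPt (prR (Nat.add 36936 k))) k) else true) 11 (3 * 2 ^ 11) = true := by decide +kernel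
theorem prL6 : ∀ w ∈ PL6, (∀ a ∈ w, a < 5) ∧ (w = [nat_lit 4, nat_lit 0, nat_lit 2, nat_lit 1, nat_lit 2, nat_lit 4] ∨ ∃ s ∈ Cfsg.Agent.Lib.ToddCox.J3T.Sl, relW Cfsg.Agent.Lib.ToddCox.J3T.sg s = w) := by decide +kernel
theorem prW6 : tabW Cfsg.Agent.Lib.ToddCox.J3T.tab [nat_lit 4, nat_lit 0, nat_lit 2, nat_lit 1, nat_lit 2, nat_lit 4] 0 = 6071 := by decide +kernel
end Cfsg.Agent.Lib.ToddCox.J3O
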